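import Mathlib.CategoryTheory.Triangulated.Orthogonal
import Mathlib.CategoryTheory.Triangulated.Triangulated
import Mathlib.CategoryTheory.Adjunction.PartialAdjoint
import Mathlib.CategoryTheory.ObjectProperty.FullSubcategory

/-!
Orthogonal decompositions in (pre)triangulated categories.
-/

set_option autoImplicit false

universe v u

open CategoryTheory CategoryTheory.Limits CategoryTheory.Pretriangulated

namespace Groth.Agent.TriOrth

variable {D : Type u} [Category.{v} D] [Preadditive D] [HasZeroObject D] [HasShift D ℤ]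
  [∀ n : ℤ, (shiftFunctor D n).Additive] [Pretriangulated D]

open ObjectProperty in
theorem rightOrthogonal_iff_bijective (P : ObjectProperty D) [P.IsStableUnderShift ℤ]
    (T : Triangle D) (hT : T ∈ distinguishedTriangles) :
    P.rightOrthogonal T.obj₃ ↔
      ∀ A : D, P A → Function.Bijective (fun u : A ⟶ T.obj₁ => u ≫ T.mor₁) := by
  refine ⟨fun h A hA => ⟨fun u₁ u₂ hu => ?_, fun v => ?_⟩, fun h A u hA => ?_⟩
  · simp only at hu
    have h0 : (u₁ - u₂) ≫ T.mor₁ = 0 := by rw [Preadditive.sub_comp, hu, sub_self]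
    obtain ⟨β, hβ⟩ := Triangle.coyoneda_exact₂ _ (inv_rot_of_distTriang _ hT) (u₁ - u₂) h0
    have := (inferInstance : P.rightOrthogonal.IsStableUnderShift ℤ)
    have := P.rightOrthogonal.le_shift (-1 : ℤ) _ h
    have hβ0 : β = 0 := this β hA
    rw [hβ0, zero_comp] at hβ
    exact sub_eq_zero.mp hβ
  · obtain ⟨β, hβ⟩ := Triangle.coyoneda_exact₂ _ hT v (h (v ≫ T.mor₂) hA)
    exact ⟨β, hβ.symm⟩
  · have h3 : u ≫ T.mor₃ = 0 := by
      have hA' : P (A⟦(-1 : ℤ)⟧) := P.le_shift (-1 : ℤ) _ hA
      have h0 : (u ≫ T.mor₃ ≫ T.mor₁⟦(1 : ℤ)⟧') = 0 := by simp [comp_distTriang_mor_zero₃₁ _ hT]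
      let e := (shiftFunctorCompIsoId D (-1 : ℤ) (1 : ℤ) (by simp)).app A
      obtain ⟨w, hw⟩ := (shiftFunctor D (1 : ℤ)).map_surjective (e.hom ≫ u ≫ T.mor₃)
      have hw1 : w ≫ T.mor₁ = 0 := by
        apply (shiftFunctor D (1 : ℤ)).map_injective
        rw [Functor.map_comp, hw, Category.assoc, Category.assoc, h0, comp_zero, Functor.map_zero]
      have hw0 : w = 0 := (h _ hA').1 (by simpa using hw1)
      rw [hw0, Functor.map_zero] at hw
      rw [← cancel_epi e.hom, ← hw, comp_zero]
    obtain ⟨β, hβ⟩ := Triangle.coyoneda_exact₃ _ hT u h3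
    obtain ⟨γ, hγ⟩ := (h A hA).2 β
    rw [hβ, ← hγ]
    simp [comp_distTriang_mor_zero₁₂ _ hT]

open ObjectProperty in
theorem leftOrthogonal_iff_bijective (P : ObjectProperty D) [P.IsStableUnderShift ℤ]
    (T : Triangle D) (hT : T ∈ distinguishedTriangles) :
    P.leftOrthogonal T.obj₁ ↔
      ∀ B : D, P B → Function.Bijective (fun u : T.obj₃ ⟶ B => T.mor₂ ≫ u) := by
  refine ⟨fun h A hA => ⟨fun u₁ u₂ hu => ?_, fun v => ?_⟩, fun h A u hA => ?_⟩
  · simp only at hu
    have h0 : T.mor₂ ≫ (u₁ - u₂) = 0 := by rw [Preadditive.comp_sub, hu, sub_self]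
    obtain ⟨β, hβ⟩ := Triangle.yoneda_exact₃ _ hT (u₁ - u₂) h0
    have := (inferInstance : P.leftOrthogonal.IsStableUnderShift ℤ)
    have := P.leftOrthogonal.le_shift (1 : ℤ) _ h
    have hβ0 : β = 0 := this β hA
    rw [hβ0, comp_zero] at hβ
    exact sub_eq_zero.mp hβ
  · obtain ⟨β, hβ⟩ := Triangle.yoneda_exact₂ _ hT v (h (T.mor₁ ≫ v) hA)
    exact ⟨β, hβ.symm⟩
  · have h3 : T.mor₃ ≫ u⟦(1 : ℤ)⟧' = 0 :=
      (h _ (P.le_shift (1 : ℤ) _ hA)).1 (by simp [comp_distTriang_mor_zero₂₃_assoc _ hT])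
    obtain ⟨β, hβ⟩ : ∃ β, u⟦(1 : ℤ)⟧' = (-T.mor₁⟦(1 : ℤ)⟧') ≫ β :=
      Triangle.yoneda_exact₃ _ (rot_of_distTriang _ hT) _ h3
    obtain ⟨v, rfl⟩ := (shiftFunctor D (1 : ℤ)).map_surjective β
    obtain ⟨γ, hγ⟩ := (h A hA).2 v
    apply (shiftFunctor D (1 : ℤ)).map_injective
    rw [hβ, ← hγ, Preadditive.neg_comp, ← Functor.map_comp]
    simp [comp_distTriang_mor_zero₁₂_assoc _ hT]

/-- The inclusion of a triangulated subcategory has a right adjoint iff decompositions exist. -/
theorem isLeftAdjoint_ι_iff (P : ObjectProperty D) [P.IsTriangulated] :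
    P.ι.IsLeftAdjoint ↔ ∀ X : D, ∃ (A B : D) (f : A ⟶ X) (g : X ⟶ B) (h : B ⟶ A⟦(1 : ℤ)⟧),
      Triangle.mk f g h ∈ distinguishedTriangles ∧ P A ∧ P.rightOrthogonal B := by
  constructor
  · intro hl X
    let adj := Adjunction.ofIsLeftAdjoint P.ι
    obtain ⟨B, g, h, hT⟩ := Pretriangulated.distinguished_cocone_triangle (adj.counit.app X)
    refine ⟨_, B, _, g, h, hT, (P.ι.rightAdjoint.obj X).property,
      (rightOrthogonal_iff_bijective P _ hT).2 fun A hA => ?_⟩
    have hb := (adj.homEquiv ⟨A, hA⟩ X).symm.bijective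
    constructor
    · intro u₁ u₂ hu
      have hu' : (ObjectProperty.homMk u₁ : (⟨A, hA⟩ : P.FullSubcategory) ⟶ P.ι.rightAdjoint.obj X) =
          ObjectProperty.homMk u₂ := hb.1 (by
        simp only [Adjunction.homEquiv_counit]
        exact hu)
      exact congrArg (fun f => f.hom) hu'
    · intro v
      obtain ⟨u, hu⟩ := hb.2 v
      refine ⟨u.hom, ?_⟩
      rw [Adjunction.homEquiv_counit] at hu
      exact hu
  · intro hd
    choose A B f g h hT hA hB using hd
    have hbij : ∀ (A' : P.FullSubcategory) (X : D),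
        Function.Bijective (fun u : A'.obj ⟶ A X => u ≫ f X) := fun A' X =>
      (rightOrthogonal_iff_bijective P _ (hT X)).1 (hB X) A'.obj A'.property
    let e : ∀ (A' : P.FullSubcategory) (X : D), (P.ι.obj A' ⟶ X) ≃ (A' ⟶ (⟨A X, hA X⟩ : P.FullSubcategory)) :=
      fun A' X =>
        { toFun := fun v => ObjectProperty.homMk ((Equiv.ofBijective _ (hbij A' X)).symm v)
          invFun := fun u => u.hom ≫ f X
          left_inv := fun v => (Equiv.ofBijective _ (hbij A' X)).apply_symm_apply v
          right_inv := fun u => by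
            apply P.ι.map_injective
            exact (Equiv.ofBijective _ (hbij A' X)).symm_apply_apply u.hom }
    have he : ∀ X' X Y (a : X' ⟶ X) (b : P.ι.obj X ⟶ Y), e X' Y (P.ι.map a ≫ b) = a ≫ e X Y b := by
      intro X' X Y a b
      apply (e X' Y).symm.injective
      rw [Equiv.symm_apply_apply]
      change a.hom ≫ b = (a.hom ≫ (Equiv.ofBijective _ (hbij X Y)).symm b) ≫ f Y
      rw [Category.assoc]
      congr 1
      exact ((Equiv.ofBijective _ (hbij X Y)).apply_symm_apply b).symm
    exact (Adjunction.adjunctionOfEquivRight e he).isLeftAdjoint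

/-- The inclusion of a triangulated subcategory has a left adjoint iff decompositions exist. -/
theorem isRightAdjoint_ι_iff (P : ObjectProperty D) [P.IsTriangulated] :
    P.ι.IsRightAdjoint ↔ ∀ X : D, ∃ (A B : D) (f : A ⟶ X) (g : X ⟶ B) (h : B ⟶ A⟦(1 : ℤ)⟧),
      Triangle.mk f g h ∈ distinguishedTriangles ∧ P B ∧ P.leftOrthogonal A := by
  constructor
  · intro hl X
    let adj := Adjunction.ofIsRightAdjoint P.ι
    obtain ⟨A, f, h, hT⟩ := Pretriangulated.distinguished_cocone_triangle₁ (adj.unit.app X)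
    refine ⟨A, _, f, _, h, hT, (P.ι.leftAdjoint.obj X).property,
      (leftOrthogonal_iff_bijective P _ hT).2 fun B hB => ?_⟩
    have hb := (adj.homEquiv X ⟨B, hB⟩).bijective
    constructor
    · intro u₁ u₂ hu
      have hu' : (ObjectProperty.homMk u₁ : P.ι.leftAdjoint.obj X ⟶ (⟨B, hB⟩ : P.FullSubcategory)) =
          ObjectProperty.homMk u₂ := hb.1 (by
        simp only [Adjunction.homEquiv_unit]
        exact hu)
      exact congrArg (fun f => f.hom) hu'
    · intro v
      obtain ⟨u, hu⟩ := hb.2 v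
      refine ⟨u.hom, ?_⟩
      rw [Adjunction.homEquiv_unit] at hu
      exact hu
  · intro hd
    choose A B f g h hT hB hA using hd
    have hbij : ∀ (X : D) (B' : P.FullSubcategory),
        Function.Bijective (fun u : B X ⟶ B'.obj => g X ≫ u) := fun X B' =>
      (leftOrthogonal_iff_bijective P _ (hT X)).1 (hA X) B'.obj B'.property
    let e : ∀ (X : D) (B' : P.FullSubcategory), ((⟨B X, hB X⟩ : P.FullSubcategory) ⟶ B') ≃ (X ⟶ P.ι.obj B') :=
      fun X B' =>
        { toFun := fun u => g X ≫ u.hom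
          invFun := fun v => ObjectProperty.homMk ((Equiv.ofBijective _ (hbij X B')).symm v)
          left_inv := fun u => by
            apply P.ι.map_injective
            exact (Equiv.ofBijective _ (hbij X B')).symm_apply_apply u.hom
          right_inv := fun v => (Equiv.ofBijective _ (hbij X B')).apply_symm_apply v }
    exact (Adjunction.adjunctionOfEquivLeft e
      (fun X Y Y' a b => (Category.assoc (g X) b.hom a.hom).symm)).isRightAdjoint

section

variable (P Q : ObjectProperty D)

/-- If there are no maps from `P` to shifts of `Q`, extensions of `P` by `Q` split. -/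
theorem extensionProduct_swap_le [Q.IsStableUnderShift ℤ]
    (h0 : ∀ (A B : D), P A → Q B → ∀ f : A ⟶ B, f = 0) :
    ObjectProperty.extensionProduct Q P ≤ ObjectProperty.extensionProduct P Q := by
  rintro X ⟨Y, Z, f, g, h, hT, hY, hZ⟩
  have hz : h = 0 := h0 _ _ hZ (Q.le_shift 1 _ hY) h
  subst hz
  obtain ⟨e, -, -⟩ : ∃ e : X ≅ Y ⊞ Z, f ≫ e.hom = biprod.inl ∧ g = e.hom ≫ biprod.snd :=
    exists_iso_binaryBiproduct_of_distTriang _ hT rfl
  refine ⟨Z, Y, _, _, _, isomorphic_distinguished _ (binaryBiproductTriangle_distinguished Z Y) _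
    (Triangle.isoMk (Triangle.mk (biprod.inr ≫ e.inv) (e.hom ≫ biprod.fst) (0 : Y ⟶ Z⟦(1 : ℤ)⟧))
      (binaryBiproductTriangle Z Y) (Iso.refl _) (e ≪≫ biprod.braiding Y Z) (Iso.refl _) ?_ ?_ ?_), hZ, hY⟩
  · change (biprod.inr ≫ e.inv) ≫ e.hom ≫ (biprod.braiding Y Z).hom = 𝟙 Z ≫ biprod.inl
    rw [← Category.assoc, Category.assoc biprod.inr, e.inv_hom_id, Category.comp_id, Category.id_comp]
    ext <;> simp
  · change (e.hom ≫ biprod.fst) ≫ 𝟙 Y = (e.hom ≫ (biprod.braiding Y Z).hom) ≫ biprod.snd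
    rw [Category.comp_id, Category.assoc]
    congr 1
    simp
  · change (0 : Y ⟶ Z⟦(1 : ℤ)⟧) ≫ _ = 𝟙 Y ≫ 0
    simp

/-- Semiorthogonal triangulated subcategories generate a triangulated subcategory by extensions. -/
theorem isTriangulated_extensionProduct [IsTriangulated D] [P.IsTriangulated] [Q.IsTriangulated]
    (h0 : ∀ (A B : D), P A → Q B → ∀ f : A ⟶ B, f = 0) :
    (ObjectProperty.extensionProduct P Q).IsTriangulated := by
  have hz : (ObjectProperty.extensionProduct P Q).ContainsZero := by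
    obtain ⟨Z, hZ, hPZ⟩ := P.exists_prop_of_containsZero
    exact ⟨⟨Z, hZ, ObjectProperty.le_extensionProduct_left Q _ hPZ⟩⟩
  have hP : ObjectProperty.extensionProduct P P ≤ P.isoClosure :=
    ObjectProperty.extensionProduct_le_of_isTriangulatedClosed₂' le_rfl le_rfl
  have hQ : ObjectProperty.extensionProduct Q Q ≤ Q.isoClosure :=
    ObjectProperty.extensionProduct_le_of_isTriangulatedClosed₂' le_rfl le_rfl
  have h2 : (ObjectProperty.extensionProduct P Q).IsTriangulatedClosed₂ := by
    refine .mk' fun T hT h₁ h₃ => ?_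
    have hmem : ObjectProperty.extensionProduct (ObjectProperty.extensionProduct P Q)
        (ObjectProperty.extensionProduct P Q) T.obj₂ := ⟨_, _, _, _, _, hT, h₁, h₃⟩
    have hle : ObjectProperty.extensionProduct (ObjectProperty.extensionProduct P Q)
        (ObjectProperty.extensionProduct P Q) ≤ ObjectProperty.extensionProduct P Q := by
      rw [ObjectProperty.extensionProduct_assoc, ← ObjectProperty.extensionProduct_assoc Q P Q]
      refine le_trans (ObjectProperty.monotone_extensionProduct_right _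
        (ObjectProperty.monotone_extensionProduct_left _ (extensionProduct_swap_le P Q h0))) ?_
      rw [ObjectProperty.extensionProduct_assoc, ← ObjectProperty.extensionProduct_assoc P P]
      refine le_trans (ObjectProperty.monotone_extensionProduct_left _ hP) ?_
      refine le_trans (ObjectProperty.monotone_extensionProduct_right _ hQ) ?_
      rw [ObjectProperty.extensionProduct_isoClosure_left, ObjectProperty.extensionProduct_isoClosure_right]
    exact hle _ hmem
  exact { }

end

end Groth.Agent.TriOrth
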